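import Groth.Agent.Etdl.H440.CFBC

/-!
# Sections of a morphism: `K ≅ r⁻¹ (a⁻¹ K)` for `r ≫ a = 𝟙`; the functor `CF.id`

* `secNT a r h : 𝟭 ⟶ bc a ⋙ bc r`, `isIso_tr_secNT`;
* `id_res`: `(CF.id X).res (𝟙 _)` is the identity;
* `fcl_res_id`: the base change theorem `fcl_res` with the identity functor on `P` and `S`.
-/

set_option autoImplicit false
set_option linter.dupNamespace false
universe u
open CategoryTheory CategoryTheory.Limits AlgebraicGeometry Opposite Abelian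
open Groth.Agent.Sga4B.DualShape Groth.Agent.Sga4B.EUConst
open Groth.Agent.EtpbcB.BCCalc
open scoped Groth.Agent.Etcore.EtInst
open Groth.Agent.Etcore.EtInst
open Groth.Agent.Etcore.ExtMap (extMap extMap_apply)
open Groth.Agent.Etdl.H440.CF

namespace Groth.Agent.Etdl.H433.IdNT

noncomputable section

variable {X Y Y' P P' S : Scheme.{u}}

section sec

variable (a : Y' ⟶ Y) (r : Y ⟶ Y') (h : r ≫ a = 𝟙 Y)

include h in
theorem sec_aux (K : Y.Etale) : 𝟙 K.left ≫ K.hom = (K.hom ≫ r) ≫ a :=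
  (Category.id_comp _).trans ((Category.comp_id _).symm.trans
    ((congrArg (K.hom ≫ ·) h.symm).trans (Category.assoc _ _ _).symm))

/-- `K ⟶ Y' ×_Y K` over `r`. -/
def secL (K : Y.Etale) : K.left ⟶ ((EtCoh.bc a).obj K).left :=
  (isPullback_pr a K).lift (𝟙 K.left) (K.hom ≫ r) (sec_aux a r h K)

theorem secL_pr (K : Y.Etale) : secL a r h K ≫ pr a K = 𝟙 K.left :=
  (isPullback_pr a K).lift_fst _ _ _

theorem secL_hom (K : Y.Etale) : secL a r h K ≫ ((EtCoh.bc a).obj K).hom = K.hom ≫ r :=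
  (isPullback_pr a K).lift_snd _ _ _

/-- `K ⟶ r⁻¹ (a⁻¹ K)`. -/
def secApp (K : Y.Etale) : K ⟶ (EtCoh.bc r).obj ((EtCoh.bc a).obj K) :=
  lift r (secL a r h K) (secL_hom a r h K)

theorem secApp_pr (K : Y.Etale) :
    (secApp a r h K).left ≫ pr r ((EtCoh.bc a).obj K) = secL a r h K :=
  lift_left_pr _ _ _

theorem secApp_pr_pr (K : Y.Etale) :
    (secApp a r h K).left ≫ pr r ((EtCoh.bc a).obj K) ≫ pr a K = 𝟙 K.left := by
  rw [← Category.assoc, secApp_pr, secL_pr]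

theorem secApp_nat {K K' : Y.Etale} (g : K ⟶ K') :
    g ≫ secApp a r h K' = secApp a r h K ≫ (EtCoh.bc r).map ((EtCoh.bc a).map g) := by
  apply hom_ext_bc₂ a r
  rw [comp_left, comp_left, Category.assoc, Category.assoc, secApp_pr_pr, Category.comp_id,
    ← Category.assoc (((EtCoh.bc r).map ((EtCoh.bc a).map g)).left), bc_map_left_pr,
    Category.assoc, bc_map_left_pr, ← Category.assoc (pr r _), ← Category.assoc,
    secApp_pr_pr, Category.id_comp]

/-- `𝟭 ⟶ bc a ⋙ bc r`. -/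
def secNT : (CF.id Y).v ⟶ ((pullCF a).comp (pullCF r)).v where
  app K := secApp a r h K
  naturality _ _ g := secApp_nat a r h g

include h in
theorem secInv_aux (K : Y.Etale) : (pr r ((EtCoh.bc a).obj K) ≫ pr a K) ≫ K.hom =
    ((EtCoh.bc r).obj ((EtCoh.bc a).obj K)).hom :=
  (Category.assoc _ _ _).trans ((congrArg (pr r ((EtCoh.bc a).obj K) ≫ ·) (pr_hom a K)).trans
    ((Category.assoc _ _ _).symm.trans ((congrArg (· ≫ a) (pr_hom r ((EtCoh.bc a).obj K))).trans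
      ((Category.assoc _ _ _).trans ((congrArg (((EtCoh.bc r).obj ((EtCoh.bc a).obj K)).hom ≫ ·)
        h).trans (Category.comp_id _))))))

/-- The inverse of `secApp`. -/
def secInv (K : Y.Etale) : (EtCoh.bc r).obj ((EtCoh.bc a).obj K) ⟶ K :=
  MorphismProperty.Over.homMk (pr r ((EtCoh.bc a).obj K) ≫ pr a K) (secInv_aux a r h K) trivial

theorem secInv_left (K : Y.Etale) :
    (secInv a r h K).left = pr r ((EtCoh.bc a).obj K) ≫ pr a K := rfl

theorem secApp_secInv (K : Y.Etale) : secApp a r h K ≫ secInv a r h K = 𝟙 K :=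
  MorphismProperty.Over.Hom.ext (secApp_pr_pr a r h K)

theorem secInv_secApp (K : Y.Etale) : secInv a r h K ≫ secApp a r h K = 𝟙 _ := by
  apply hom_ext_bc₂ a r
  refine (Category.assoc _ _ _).trans ?_
  refine (congrArg ((secInv a r h K).left ≫ ·) (secApp_pr_pr a r h K)).trans ?_
  exact (Category.comp_id _).trans (Category.id_comp _).symm

/-- `K ≅ r⁻¹ (a⁻¹ K)`. -/
def secIso : (CF.id Y).v ≅ ((pullCF a).comp (pullCF r)).v :=
  NatIso.ofComponents (fun K => ⟨secApp a r h K, secInv a r h K, secApp_secInv a r h K,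
    secInv_secApp a r h K⟩) (fun g => secApp_nat a r h g)

theorem secIso_hom : (secIso a r h).hom = secNT a r h := rfl

instance isIso_tr_secNT (F : EtCoh.Ab Y) : IsIso ((CF.tr (secNT a r h)).app F) := by
  have h1 : (CF.tr (secNT a r h)) = (CF.trIso (secIso a r h)).hom := rfl
  rw [h1]
  infer_instance

end sec

section id

theorem id_sg {R : Y.Etale} : (CF.id Y).sg (𝟙 R) = 𝟙 (ZS R) := by
  apply ZS_hom_ext
  unfold CF.sg
  refine (sHom_jun _).trans ?_
  have h1 : ((CF.id Y).L.obj (ZS R)).obj.map (𝟙 R : R ⟶ (CF.id Y).v.obj R).op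
      ((CF.id Y).un (jun ℤ R 1)) = (CF.id Y).un (jun ℤ R 1) := by
    have h2 : ((CF.id Y).L.obj (ZS R)).obj.map (𝟙 R : R ⟶ (CF.id Y).v.obj R).op = 𝟙 _ :=
      ((CF.id Y).L.obj (ZS R)).obj.map_id (op R)
    rw [h2]
    rfl
  exact h1

theorem id_res {R : Y.Etale} (F : EtCoh.Ab Y) (N : ℕ) (x : Ext.{u + 1} (ZS R) F N) :
    (CF.id Y).res (𝟙 R) F N x = x := by
  have h := CF.res_apply (CF.id Y) (𝟙 R : R ⟶ (CF.id Y).v.obj R) F N x
  rw [id_sg] at h
  refine h.trans ?_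
  refine (Ext.mk₀_id_comp _).trans ?_
  exact Etcore.ExtAdj.mapExactFunctor_id x

end id

section res

/-! ### Base change of classes, over the same `P` and `S` -/

variable {A : CF P Y} {A' : CF P Y'} {B : CF Y Y'} (θ : A'.v ⟶ (A.comp B).v) {O T : P.Etale}
  {o : O ⟶ T} {R : Y.Etale} {R' : Y'.Etale} (D : Chart A o R)
  (D' : Chart A' o R') (σ : R' ⟶ B.v.obj R)

theorem gs_res' (ω : D'.W ⟶ B.v.obj D.W) (hω : D'.m ≫ σ = ω ≫ B.v.map D.m)
    (hlam : D'.lam ≫ θ.app T = ω ≫ B.v.map D.lam)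
    (ρ : D'.R₀ ⟶ B.v.obj D.R₀) (hρ : D'.n ≫ σ = ρ ≫ B.v.map D.n) :
    (B.L.obj (A.L.obj (ZQ o))).obj.map σ.op (B.un (D.gs (qs o) (qs_res o))) =
      ((CF.tr θ).app (ZQ o)).hom.app (op R') (D'.gs (qs o) (qs_res o)) := by
  have nat1 : ∀ {U V : Y'.Etale} (g : V ⟶ U) (x : EtCoh.sect (A'.L.obj (ZQ o)) U),
      (B.L.obj (A.L.obj (ZQ o))).obj.map g.op (((CF.tr θ).app (ZQ o)).hom.app (op U) x) =
        ((CF.tr θ).app (ZQ o)).hom.app (op V) ((A'.L.obj (ZQ o)).obj.map g.op x) := fun g x =>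
    (ConcreteCategory.congr_hom (((CF.tr θ).app (ZQ o)).hom.naturality g.op) x).symm
  refine ext_of_pair _ D'.m D'.n D'.cov ?_ ?_
  · rw [map_map, hω, ← map_map]
    have h1 : (B.L.obj (A.L.obj (ZQ o))).obj.map (B.v.map D.m).op
        (B.un (D.gs (qs o) (qs_res o))) =
        (B.L.obj (A.L.obj (ZQ o))).obj.map (B.v.map D.lam).op (B.un (A.un (qs o))) := by
      refine (B.un_res D.m _).symm.trans ?_
      rw [D.gs_m]
      exact B.un_res D.lam _
    rw [h1, map_map, ← hlam, nat1, D'.gs_m]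
    have h3 := CF.tr_un θ (F := ZQ o) (U := T) (qs o)
    rw [CF.comp_un] at h3
    refine Eq.trans ?_ (nat1 D'.lam (A'.un (qs o)))
    refine Eq.trans ?_ (congrArg _ h3.symm)
    exact (map_map (B.L.obj (A.L.obj (ZQ o))) _ _ _).symm
  · rw [map_map, hρ, ← map_map]
    have h1 : (B.L.obj (A.L.obj (ZQ o))).obj.map (B.v.map D.n).op
        (B.un (D.gs (qs o) (qs_res o))) = 0 := by
      refine (B.un_res D.n _).symm.trans ?_
      rw [D.gs_n]
      exact B.un_zero _ _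
    rw [h1, map_zero, nat1, D'.gs_n]
    symm
    exact map_zero (((CF.tr θ).app (ZQ o)).hom.app (op D'.R₀)).hom

theorem cl_res' (ω : D'.W ⟶ B.v.obj D.W) (hω : D'.m ≫ σ = ω ≫ B.v.map D.m)
    (hlam : D'.lam ≫ θ.app T = ω ≫ B.v.map D.lam)
    (ρ : D'.R₀ ⟶ B.v.obj D.R₀) (hρ : D'.n ≫ σ = ρ ≫ B.v.map D.n) {E : EtCoh.Ab P} (N : ℕ)
    (x : Ext.{u + 1} (ZQ o) E N) :
    B.res σ (A.L.obj E) N (D.cl N x) =
      (D'.cl N x).comp (Ext.mk₀ ((CF.tr θ).app E)) (add_zero N) := by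
  refine (CF.res_cl A B _ N σ x).trans ?_
  rw [gs_res' θ D D' σ ω hω hlam ρ hρ]
  exact (CF.cl_tr θ _ N x).symm

variable {Pi : CF S P} {Fc : CF S Y} (β : (Pi.comp A).v ⟶ Fc.v) {Fc' : CF S Y'}
  (β' : (Pi.comp A').v ⟶ Fc'.v) (φ : Fc'.v ⟶ (Fc.comp B).v)
  (h : ∀ V : S.Etale, θ.app (Pi.v.obj V) ≫ B.v.map (β.app V) = β'.app V ≫ φ.app V)

include h in
theorem tr_compat' (M : EtCoh.Ab S) :
    (CF.tr θ).app (Pi.L.obj M) ≫ B.L.map ((CF.tr β).app M) =
      (CF.tr β').app M ≫ (CF.tr φ).app M := by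
  apply CF.hom_ext (Pi.comp A')
  intro V s
  have e0 : (Pi.comp A').un s = A'.un (Pi.un s) := CF.comp_un Pi A' s
  have l1 : ((CF.tr θ).app (Pi.L.obj M)).hom.app (op (A'.v.obj (Pi.v.obj V)))
      (A'.un (Pi.un s)) =
      (B.L.obj (A.L.obj (Pi.L.obj M))).obj.map (θ.app (Pi.v.obj V)).op
        (B.un (A.un (Pi.un s))) := by
    have := CF.tr_un θ (Pi.un s)
    rw [CF.comp_un] at this
    exact this
  have l2 : (B.L.map ((CF.tr β).app M)).hom.app (op (B.v.obj (A.v.obj (Pi.v.obj V))))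
      (B.un (A.un (Pi.un s))) =
      (B.L.obj (Fc.L.obj M)).obj.map (B.v.map (β.app V)).op (B.un (Fc.un s)) := by
    refine (B.map_un ((CF.tr β).app M) (A.un (Pi.un s))).trans ?_
    have := CF.tr_un β s
    rw [CF.comp_un] at this
    refine (congrArg B.un this).trans ?_
    exact B.un_res (β.app V) (Fc.un s)
  have l3 : ((CF.tr θ).app (Pi.L.obj M) ≫ B.L.map ((CF.tr β).app M)).hom.app
      (op ((Pi.comp A').v.obj V)) (A'.un (Pi.un s)) =
      (B.L.obj (Fc.L.obj M)).obj.map (θ.app (Pi.v.obj V) ≫ B.v.map (β.app V)).op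
        (B.un (Fc.un s)) := by
    refine (congrArg ((B.L.map ((CF.tr β).app M)).hom.app _) l1).trans ?_
    refine (ConcreteCategory.congr_hom ((B.L.map ((CF.tr β).app M)).hom.naturality
      (θ.app (Pi.v.obj V)).op) (B.un (A.un (Pi.un s)))).trans ?_
    refine (congrArg ((B.L.obj (Fc.L.obj M)).obj.map (θ.app (Pi.v.obj V)).op) l2).trans ?_
    exact map_map _ _ _ _
  have r2 : ((CF.tr β').app M).hom.app (op (A'.v.obj (Pi.v.obj V))) (A'.un (Pi.un s)) =
      (Fc'.L.obj M).obj.map (β'.app V).op (Fc'.un s) := by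
    have := CF.tr_un β' s
    rw [CF.comp_un] at this
    exact this
  have r3 : ((CF.tr φ).app M).hom.app (op (Fc'.v.obj V)) (Fc'.un s) =
      (B.L.obj (Fc.L.obj M)).obj.map (φ.app V).op (B.un (Fc.un s)) := by
    have := CF.tr_un φ s
    rw [CF.comp_un] at this
    exact this
  have r4 : ((CF.tr β').app M ≫ (CF.tr φ).app M).hom.app (op ((Pi.comp A').v.obj V))
      (A'.un (Pi.un s)) =
      (B.L.obj (Fc.L.obj M)).obj.map (β'.app V ≫ φ.app V).op (B.un (Fc.un s)) := by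
    refine (congrArg (((CF.tr φ).app M).hom.app _) r2).trans ?_
    refine (ConcreteCategory.congr_hom (((CF.tr φ).app M).hom.naturality
      (β'.app V).op) _).trans ?_
    refine (congrArg ((B.L.obj (Fc.L.obj M)).obj.map (β'.app V).op) r3).trans ?_
    exact map_map (B.L.obj (Fc.L.obj M)) _ _ (B.un (Fc.un s))
  refine (congrArg (((CF.tr θ).app (Pi.L.obj M) ≫ B.L.map ((CF.tr β).app M)).hom.app _)
    e0).trans (l3.trans ?_)
  refine Eq.trans ?_ (r4.symm.trans (congrArg ((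
    (CF.tr β').app M ≫ (CF.tr φ).app M).hom.app _) e0.symm))
  exact congrArg (fun k => (B.L.obj (Fc.L.obj M)).obj.map k.op (B.un (Fc.un s))) (h V)

include h in
/-- **Base change of the classes with values in `𝓕 M`.** -/
theorem fcl_res' (ω : D'.W ⟶ B.v.obj D.W) (hω : D'.m ≫ σ = ω ≫ B.v.map D.m)
    (hlam : D'.lam ≫ θ.app T = ω ≫ B.v.map D.lam)
    (ρ : D'.R₀ ⟶ B.v.obj D.R₀) (hρ : D'.n ≫ σ = ρ ≫ B.v.map D.n) (M : EtCoh.Ab S) (N : ℕ)
    (x : Ext.{u + 1} (ZQ o) (Pi.L.obj M) N) :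
    B.res σ (Fc.L.obj M) N (D.fcl β M N x) =
      (D'.fcl β' M N x).comp (Ext.mk₀ ((CF.tr φ).app M)) (add_zero N) := by
  have h1 := tr_compat' θ β β' φ h M
  have h3 : B.res σ (Fc.L.obj M) N (D.fcl β M N x) =
      ((D'.cl N x).comp
        (Ext.mk₀ ((CF.tr θ).app (Pi.L.obj M))) (add_zero N)).comp
          (Ext.mk₀ (B.L.map ((CF.tr β).app M))) (add_zero N) := by
    refine (CF.res_comp_mk₀ B σ ((CF.tr β).app M) N (D.cl N x)).trans ?_
    exact congrArg (fun z => z.comp (Ext.mk₀ (B.L.map ((CF.tr β).app M))) (add_zero N))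
      (cl_res' θ D D' σ ω hω hlam ρ hρ N x)
  have h4 : ((D'.cl N x).comp
        (Ext.mk₀ ((CF.tr θ).app (Pi.L.obj M))) (add_zero N)).comp
          (Ext.mk₀ (B.L.map ((CF.tr β).app M))) (add_zero N) =
      (D'.cl N x).comp
        (Ext.mk₀ ((CF.tr θ).app (Pi.L.obj M) ≫ B.L.map ((CF.tr β).app M))) (add_zero N) :=
    (Ext.comp_assoc_of_third_deg_zero _ _ _ _).trans
      (congrArg (fun z => (D'.cl N x).comp z
        (add_zero N)) (Ext.mk₀_comp_mk₀ ((CF.tr θ).app (Pi.L.obj M))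
          (B.L.map ((CF.tr β).app M))))
  refine h3.trans (h4.trans ?_)
  refine (congrArg (fun k => (D'.cl N x).comp (Ext.mk₀ k) (add_zero N)) h1).trans ?_
  symm
  refine (Ext.comp_assoc_of_third_deg_zero (D'.cl N x) (Ext.mk₀ ((CF.tr β').app M))
    (Ext.mk₀ ((CF.tr φ).app M)) (add_zero N)).trans ?_
  exact congrArg (fun z => (D'.cl N x).comp z (add_zero N))
    (Ext.mk₀_comp_mk₀ ((CF.tr β').app M) ((CF.tr φ).app M))

end res

end

end Groth.Agent.Etdl.H433.IdNT
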