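import Groth.Agent.Etdl.H433.IdNT
import Groth.Agent.Sga4B.DiagM5Inj
import Groth.Agent.Etcore.Cover
import Mathlib.AlgebraicGeometry.AlgClosed.Basic

/-!
# The family lemma

`k` algebraically closed, `p : Y ⟶ Spec k` proper, `B` connected locally of finite type over `k`,
`Y_B = Y × B`, `F` a torsion sheaf on `Y`, `u ∈ H^N(Y_B, a⁻¹ F)`. The restriction of `u` to
`Y × {t}`, `t ∈ B(k)`, an element of `H^N(Y, F)`, is independent of `t`.
-/

set_option autoImplicit false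
set_option linter.dupNamespace false
universe u
open CategoryTheory CategoryTheory.Limits AlgebraicGeometry Opposite Abelian
open Groth.Agent.Sga4B.DualShape Groth.Agent.Sga4B.EUConst
open Groth.Agent.EtpbcB.BCCalc
open scoped Groth.Agent.Etcore.EtInst
open Groth.Agent.Etcore.EtInst
open Groth.Agent.Etcore.ExtMap (extMap extMap_apply)
open Groth.Agent.Etdl.H440.CF

namespace Groth.Agent.Etdl.H433.Family

open Groth.Agent.Etdl.H433.IdNT

noncomputable section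

section Points

variable {k : Type u} [Field k] [IsAlgClosed k]

/-- A non-empty scheme locally of finite type over `k` has a rational point. -/
theorem exists_point {V : Scheme.{u}} (f : V ⟶ Spec (CommRingCat.of k)) [LocallyOfFiniteType f]
    {C : Set V} (hC : C.Nonempty) (hC' : IsLocallyClosed C) :
    ∃ t : Spec (CommRingCat.of k) ⟶ V, t ≫ f = 𝟙 _ ∧ t (IsLocalRing.closedPoint k) ∈ C := by
  have := LocallyOfFiniteType.jacobsonSpace f
  obtain ⟨x, hx, hxc⟩ := nonempty_inter_closedPoints hC hC'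
  refine ⟨((pointEquivClosedPoint f).symm ⟨x, hxc⟩).1, ((pointEquivClosedPoint f).symm ⟨x, hxc⟩).2,
    ?_⟩
  have h := (pointEquivClosedPoint f).apply_symm_apply ⟨x, hxc⟩
  have h2 := congrArg Subtype.val h
  rw [pointEquivClosedPoint_apply_coe] at h2
  rw [h2]
  exact hx

end Points

section Top

variable {Y Y' : Scheme.{u}}

/-- Morphisms into `r⁻¹ (top)` agree. -/
theorem hom_bc_top (r : Y' ⟶ Y) {K : Y'.Etale} (a b : K ⟶ (EtCoh.bc r).obj (EtCoh.top Y)) :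
    a = b := (EtCore.bcTopIsTerminal r).hom_ext a b

theorem hom_bc_bc_top {Y'' : Scheme.{u}} (a : Y' ⟶ Y) (r : Y'' ⟶ Y') {K : Y''.Etale}
    (x y : K ⟶ (EtCoh.bc r).obj ((EtCoh.bc a).obj (EtCoh.top Y))) : x = y :=
  (IsTerminal.isTerminalObj (EtCoh.bc r) _ (EtCore.bcTopIsTerminal a)).hom_ext x y

end Top

section Abs

variable {C : Type (u + 2)} [Category.{u + 1} C] [Abelian C] [HasExt.{u + 1} C]

theorem postcomp_bijective (A : C) {F G : C} (φ : F ⟶ G) (N : ℕ) (h : IsIso φ) :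
    Function.Bijective ((Ext.mk₀ φ).postcomp A (add_zero N)) := by
  constructor
  · intro x y hxy
    have h1 : x.comp (Ext.mk₀ φ) (add_zero N) = y.comp (Ext.mk₀ φ) (add_zero N) := hxy
    have h2 := congrArg (fun z => z.comp (Ext.mk₀ (inv φ)) (add_zero N)) h1
    simpa only [Ext.comp_assoc_of_third_deg_zero, Ext.mk₀_comp_mk₀, IsIso.hom_inv_id,
      Ext.comp_mk₀_id] using h2
  · intro y
    refine ⟨y.comp (Ext.mk₀ (inv φ)) (add_zero N), ?_⟩
    change (y.comp (Ext.mk₀ (inv φ)) (add_zero N)).comp (Ext.mk₀ φ) (add_zero N) = y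
    rw [Ext.comp_assoc_of_third_deg_zero, Ext.mk₀_comp_mk₀, IsIso.inv_hom_id, Ext.comp_mk₀_id]

end Abs

section Main

variable {k : Type u} [Field k] [IsAlgClosed k] {Y B Y' : Scheme.{u}}
  (p : Y ⟶ Spec (CommRingCat.of k)) (τ : B ⟶ Spec (CommRingCat.of k))
  (a : Y' ⟶ Y) (b : Y' ⟶ B) (hsq : IsPullback a b p τ)
  (F : EtCoh.Ab Y) (N : ℕ)

section lifts

variable (t : Spec (CommRingCat.of k) ⟶ B) (ht : t ≫ τ = 𝟙 _)

include ht in
theorem rp_aux : 𝟙 Y ≫ p = (p ≫ t) ≫ τ := by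
  rw [Category.id_comp, Category.assoc, ht, Category.comp_id]

/-- The section `Y ⟶ Y'` attached to a rational point of `B`. -/
def rp : Y ⟶ Y' := hsq.lift (𝟙 Y) (p ≫ t) (rp_aux p τ t ht)

theorem rp_a : rp p τ a b hsq t ht ≫ a = 𝟙 Y := hsq.lift_fst _ _ _

theorem rp_b : rp p τ a b hsq t ht ≫ b = p ≫ t := hsq.lift_snd _ _ _

theorem isPullback_rp : IsPullback (rp p τ a b hsq t ht) p b t := by
  refine IsPullback.of_right (h₁₂ := a) (h₂₂ := τ) (v₁₃ := p) ?_ (rp_b p τ a b hsq t ht) hsq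
  rw [rp_a, ht]
  exact IsPullback.of_horiz_isIso ⟨by rw [Category.id_comp, Category.comp_id]⟩

end lifts

/-- The restriction to `Y × {t}`. -/
def ev (t : Spec (CommRingCat.of k) ⟶ B) (ht : t ≫ τ = 𝟙 _) :
    Ext.{u + 1} (ZS (EtCoh.top Y')) ((EtCoh.pull a).obj F) N →+
      Ext.{u + 1} (ZS (EtCoh.top Y)) ((EtCoh.pull (rp p τ a b hsq t ht)).obj
        ((EtCoh.pull a).obj F)) N :=
  (pullCF (rp p τ a b hsq t ht)).res (EtCore.bcTopIso (rp p τ a b hsq t ht)).inv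
    ((EtCoh.pull a).obj F) N

/-- The pull back of a class. -/
def pb : Ext.{u + 1} (ZS (EtCoh.top Y)) F N →+
    Ext.{u + 1} (ZS (EtCoh.top Y')) ((EtCoh.pull a).obj F) N :=
  (pullCF a).res (EtCore.bcTopIso a).inv F N

/-- The comparison of `F` with `r⁻¹ a⁻¹ F`. -/
def cmpI (t : Spec (CommRingCat.of k) ⟶ B) (ht : t ≫ τ = 𝟙 _) :
    Ext.{u + 1} (ZS (EtCoh.top Y)) F N →+
      Ext.{u + 1} (ZS (EtCoh.top Y)) ((EtCoh.pull (rp p τ a b hsq t ht)).obj
        ((EtCoh.pull a).obj F)) N :=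
  (Ext.mk₀ ((CF.tr (secNT a (rp p τ a b hsq t ht) (rp_a p τ a b hsq t ht))).app F)).postcomp
    (ZS (EtCoh.top Y)) (add_zero N)

theorem cmpI_bijective (t : Spec (CommRingCat.of k) ⟶ B) (ht : t ≫ τ = 𝟙 _) :
    Function.Bijective (cmpI p τ a b hsq F N t ht) :=
  postcomp_bijective (ZS (EtCoh.top Y)) _ N
    (isIso_tr_secNT a (rp p τ a b hsq t ht) (rp_a p τ a b hsq t ht) F)

theorem cmpI_injective (t : Spec (CommRingCat.of k) ⟶ B) (ht : t ≫ τ = 𝟙 _) :
    Function.Injective (cmpI p τ a b hsq F N t ht) := (cmpI_bijective p τ a b hsq F N t ht).1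

theorem cmpI_surjective (t : Spec (CommRingCat.of k) ⟶ B) (ht : t ≫ τ = 𝟙 _) :
    Function.Surjective (cmpI p τ a b hsq F N t ht) := (cmpI_bijective p τ a b hsq F N t ht).2

theorem ev_pb (t : Spec (CommRingCat.of k) ⟶ B) (ht : t ≫ τ = 𝟙 _)
    (e : Ext.{u + 1} (ZS (EtCoh.top Y)) F N) :
    ev p τ a b hsq F N t ht (pb a F N e) = cmpI p τ a b hsq F N t ht e := by
  have h1 := CF.res_res (pullCF a) (pullCF (rp p τ a b hsq t ht)) (EtCore.bcTopIso a).inv
    (EtCore.bcTopIso (rp p τ a b hsq t ht)).inv F N e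
  refine h1.trans ?_
  have h2 := CF.res_tr (secNT a (rp p τ a b hsq t ht) (rp_a p τ a b hsq t ht))
    (𝟙 (EtCoh.top Y)) F N e
  have h3 := id_res (R := EtCoh.top Y) F N e
  have h4 := congrArg (fun z => z.comp (Ext.mk₀ ((CF.tr (secNT a (rp p τ a b hsq t ht)
    (rp_a p τ a b hsq t ht))).app F)) (add_zero N)) h3
  refine Eq.trans ?_ (h2.symm.trans h4)
  refine congrArg (fun z => ((pullCF a).comp (pullCF (rp p τ a b hsq t ht))).res z F N e) ?_
  exact hom_bc_bc_top a (rp p τ a b hsq t ht) _ _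

/-- The canonical morphism `Y' ×_B V ⟶ Y'`. -/
abbrev cV (V : B.Etale) : (EtCoh.bc b).obj V ⟶ EtCoh.top Y' := toTop _

/-- If `δ` dies on `Y' ×_B V` then it dies on `Y × {t}` for the points `t` of `V`. -/
theorem ev_eq_zero (V : B.Etale) (ζ : Spec (CommRingCat.of k) ⟶ V.left)
    (t : Spec (CommRingCat.of k) ⟶ B) (ht : t ≫ τ = 𝟙 _) (hζ : ζ ≫ V.hom = t)
    (δ : Ext.{u + 1} (ZS (EtCoh.top Y')) ((EtCoh.pull a).obj F) N)
    (h : (Ext.mk₀ (ZSmap (cV b V))).comp δ (zero_add N) = 0) :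
    ev p τ a b hsq F N t ht δ = 0 := by
  let r := rp p τ a b hsq t ht
  have hr : r ≫ b = (p ≫ ζ) ≫ V.hom := by
    rw [Category.assoc, hζ]
    exact rp_b p τ a b hsq t ht
  let l : Y ⟶ ((EtCoh.bc b).obj V).left := (isPullback_pr b V).lift (p ≫ ζ) r hr.symm
  have hl : l ≫ ((EtCoh.bc b).obj V).hom = r := (isPullback_pr b V).lift_snd _ _ _
  let s : EtCoh.top Y ⟶ (EtCoh.bc r).obj ((EtCoh.bc b).obj V) :=
    lift r (W := EtCoh.top Y) (U := (EtCoh.bc b).obj V) l (hl.trans (Category.id_comp r).symm)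
  have h1 := CF.res_mk₀_comp (pullCF r) (R := EtCoh.top Y') (R₁ := (EtCoh.bc b).obj V)
    (R' := EtCoh.top Y) s (cV b V) ((EtCoh.pull a).obj F) N δ
  rw [h, map_zero] at h1
  refine Eq.trans ?_ h1.symm
  exact congrArg (fun z => (pullCF r).res z ((EtCoh.pull a).obj F) N δ) (hom_bc_top r _ _)

theorem sg_eq {Y Y' : Scheme.{u}} (r : Y' ⟶ Y) {R : Y.Etale} {R' : Y'.Etale}
    (σ : R' ⟶ (EtCoh.bc r).obj R) :
    (pullCF r).sg σ = ZSmap σ ≫ (Sga4B.JFComp.pullIso ℤ r).inv.app R := by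
  apply ZS_hom_ext
  unfold CF.sg
  refine (sHom_jun _).trans ?_
  symm
  refine (congrArg (((Sga4B.JFComp.pullIso ℤ r).inv.app R).hom.app (op R')) (jun_map ℤ σ 1)).trans ?_
  refine (ConcreteCategory.congr_hom (((Sga4B.JFComp.pullIso ℤ r).inv.app R).hom.naturality σ.op)
    (jun ℤ ((EtCoh.bc r).obj R) 1)).trans ?_
  refine congrArg (((pullCF r).L.obj (ZS R)).obj.map σ.op) ?_
  exact Sga4B.JFComp.toL_univ ℤ (EtCoh.bc r) (EtCoh.pullPushAdj r) R 1

/-- A class which dies on `Y × {t}` dies on `Y' ×_B V` for an étale neighbourhood `V` of `t`. -/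
theorem exists_dies [IsProper p] (hF : EtCoh.IsTorsion ((EtCoh.pull a).obj F))
    (t : Spec (CommRingCat.of k) ⟶ B) (ht : t ≫ τ = 𝟙 _)
    (δ : Ext.{u + 1} (ZS (EtCoh.top Y')) ((EtCoh.pull a).obj F) N)
    (h : ev p τ a b hsq F N t ht δ = 0) :
    ∃ (V : B.Etale) (ζ : Spec (CommRingCat.of k) ⟶ V.left), ζ ≫ V.hom = t ∧
      (Ext.mk₀ (ZSmap (cV b V))).comp δ (zero_add N) = 0 := by
  have hb : IsProper b := MorphismProperty.of_isPullback (P := @IsProper) hsq inferInstance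
  let r := rp p τ a b hsq t ht
  have hr : r ≫ b = p ≫ t := rp_b p τ a b hsq t ht
  have hl0 : (p ≫ t) ≫ (EtCoh.top B).hom = r ≫ b := (Category.comp_id _).trans hr.symm
  let l : Y ⟶ ((EtCoh.bc b).obj (EtCoh.top B)).left :=
    (isPullback_pr b (EtCoh.top B)).lift (p ≫ t) r hl0
  have hl : l ≫ ((EtCoh.bc b).obj (EtCoh.top B)).hom = r :=
    (isPullback_pr b (EtCoh.top B)).lift_snd _ _ _
  have hl' : l ≫ pr b (EtCoh.top B) = p ≫ t := (isPullback_pr b (EtCoh.top B)).lift_fst _ _ _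
  let s : EtCoh.top Y ⟶ (EtCoh.bc r).obj ((EtCoh.bc b).obj (EtCoh.top B)) :=
    lift r (W := EtCoh.top Y) (U := (EtCoh.bc b).obj (EtCoh.top B)) l
      (hl.trans (Category.id_comp r).symm)
  have hs : s.left ≫ pr r ((EtCoh.bc b).obj (EtCoh.top B)) = l := lift_left_pr _ _ _
  have hsq' : IsPullback r p b (t ≫ (EtCoh.top B).hom) := by
    have e : t ≫ (EtCoh.top B).hom = t := Category.comp_id t
    rw [e]
    exact isPullback_rp p τ a b hsq t ht
  obtain ⟨V, g, ζ, hζ, hV⟩ := Sga4B.DiagM5Inj.stmtPBCInj b k (EtCoh.top B) t r p hsq' s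
    (by
      refine (Category.assoc _ _ _).symm.trans ?_
      refine (congrArg (· ≫ pr b (EtCoh.top B)) hs).trans (hl'.trans ?_)
      exact (Category.id_comp (p ≫ t)).symm)
    ((EtCoh.pull a).obj F) hF N ((Ext.mk₀ (ZSmap (cV b (EtCoh.top B)))).comp δ (zero_add N)) (by
      rw [← sg_eq]
      refine (CF.res_apply (pullCF r) s ((EtCoh.pull a).obj F) N _).symm.trans ?_
      refine (CF.res_mk₀_comp (pullCF r) (R := EtCoh.top Y') (R' := EtCoh.top Y) s
        (cV b (EtCoh.top B)) ((EtCoh.pull a).obj F) N δ).trans ?_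
      refine Eq.trans ?_ h
      exact congrArg (fun z => (pullCF r).res z ((EtCoh.pull a).obj F) N δ) (hom_bc_top r _ _))
  refine ⟨V, ζ, ?_, ?_⟩
  · have e1 : g.left ≫ (EtCoh.top B).hom = V.hom := left_hom g
    have e2 : g.left = V.hom := (Category.comp_id _).symm.trans e1
    rw [← e2]
    exact hζ
  · have e3 : ZSmap ((EtCoh.bc b).map g) ≫ ZSmap (cV b (EtCoh.top B)) = ZSmap (cV b V) := by
      rw [← Functor.map_comp]
      congr 1
      exact (EtCore.topIsTerminal _).hom_ext _ _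
    rw [Ext.mk₀_comp_mk₀_assoc, e3] at hV
    exact hV

/-- The locus where `u` is the pull back of `e`. -/
def locus (u : Ext.{u + 1} (ZS (EtCoh.top Y')) ((EtCoh.pull a).obj F) N)
    (e : Ext.{u + 1} (ZS (EtCoh.top Y)) F N) : Set B :=
  {x | ∃ (V : B.Etale) (v : V.left), V.hom v = x ∧
    (Ext.mk₀ (ZSmap (cV b V))).comp (u - pb a F N e) (zero_add N) = 0}

theorem isOpen_locus (u : Ext.{u + 1} (ZS (EtCoh.top Y')) ((EtCoh.pull a).obj F) N)
    (e : Ext.{u + 1} (ZS (EtCoh.top Y)) F N) : IsOpen (locus a b F N u e) := by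
  rw [isOpen_iff_forall_mem_open]
  rintro x ⟨V, v, hv, h⟩
  refine ⟨Set.range V.hom, ?_, (Etcore.Cover.isOpenMap_hom V).isOpen_range, ⟨v, hv⟩⟩
  rintro _ ⟨w, rfl⟩
  exact ⟨V, w, rfl, h⟩

theorem restr_eq_zero {V W : B.Etale} (α : W ⟶ V)
    (δ : Ext.{u + 1} (ZS (EtCoh.top Y')) ((EtCoh.pull a).obj F) N)
    (h : (Ext.mk₀ (ZSmap (cV b V))).comp δ (zero_add N) = 0) :
    (Ext.mk₀ (ZSmap (cV b W))).comp δ (zero_add N) = 0 := by
  have e3 : ZSmap ((EtCoh.bc b).map α) ≫ ZSmap (cV b V) = ZSmap (cV b W) := by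
    rw [← Functor.map_comp]
    congr 1
    exact (EtCore.topIsTerminal _).hom_ext _ _
  rw [← e3, ← Ext.mk₀_comp_mk₀_assoc, h, Ext.comp_zero]

include hsq in
theorem eq_of_mem_locus [LocallyOfFiniteType τ]
    (u : Ext.{u + 1} (ZS (EtCoh.top Y')) ((EtCoh.pull a).obj F) N)
    (e e' : Ext.{u + 1} (ZS (EtCoh.top Y)) F N) (x : B) (h : x ∈ locus a b F N u e)
    (h' : x ∈ locus a b F N u e') : e = e' := by
  obtain ⟨V, v, hv, h⟩ := h
  obtain ⟨V', v', hv', h'⟩ := h'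
  obtain ⟨W, α, β, z, -, -⟩ := Etcore.Cover.exists_common V V' v v' (hv.trans hv'.symm)
  have hW : Etale W.hom := W.prop
  obtain ⟨ζ, hζ, -⟩ := exists_point (W.hom ≫ τ) (C := Set.univ) ⟨z, trivial⟩
    isOpen_univ.isLocallyClosed
  have hζ' : (ζ ≫ W.hom) ≫ τ = 𝟙 _ := (Category.assoc _ _ _).trans hζ
  have key : ∀ e'' : Ext.{u + 1} (ZS (EtCoh.top Y)) F N,
      (Ext.mk₀ (ZSmap (cV b W))).comp (u - pb a F N e'') (zero_add N) = 0 →
      ev p τ a b hsq F N (ζ ≫ W.hom) hζ' u = cmpI p τ a b hsq F N (ζ ≫ W.hom) hζ' e'' := by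
    intro e'' he
    have h1 := ev_eq_zero p τ a b hsq F N W ζ (ζ ≫ W.hom) hζ' rfl _ he
    rw [map_sub, ev_pb, sub_eq_zero] at h1
    exact h1
  exact cmpI_injective p τ a b hsq F N (ζ ≫ W.hom) hζ'
    ((key e (restr_eq_zero a b F N α _ h)).symm.trans (key e' (restr_eq_zero a b F N β _ h')))

include hsq in
theorem mem_locus [IsProper p] (hF : EtCoh.IsTorsion ((EtCoh.pull a).obj F))
    (u : Ext.{u + 1} (ZS (EtCoh.top Y')) ((EtCoh.pull a).obj F) N)
    (e : Ext.{u + 1} (ZS (EtCoh.top Y)) F N) (t : Spec (CommRingCat.of k) ⟶ B) (ht : t ≫ τ = 𝟙 _)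
    (h : ev p τ a b hsq F N t ht u = cmpI p τ a b hsq F N t ht e) :
    t (IsLocalRing.closedPoint k) ∈ locus a b F N u e := by
  obtain ⟨V, ζ, hζ, hV⟩ := exists_dies p τ a b hsq F N hF t ht (u - pb a F N e) (by
    rw [map_sub, ev_pb, h, sub_self])
  refine ⟨V, ζ (IsLocalRing.closedPoint k), ?_, hV⟩
  rw [← Scheme.Hom.comp_apply, hζ]

include hsq in
theorem exists_mem_locus [IsProper p] [LocallyOfFiniteType τ]
    (hF : EtCoh.IsTorsion ((EtCoh.pull a).obj F))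
    (u : Ext.{u + 1} (ZS (EtCoh.top Y')) ((EtCoh.pull a).obj F) N) (x : B) :
    ∃ e, x ∈ locus a b F N u e := by
  obtain ⟨t, ht, hx⟩ := exists_point τ (C := closure {x}) ⟨x, subset_closure rfl⟩
    isClosed_closure.isLocallyClosed
  obtain ⟨e, he⟩ := cmpI_surjective p τ a b hsq F N t ht (ev p τ a b hsq F N t ht u)
  have h1 := mem_locus p τ a b hsq F N hF u e t ht he.symm
  exact ⟨e, (specializes_iff_mem_closure.2 hx).mem_open (isOpen_locus a b F N u e) h1⟩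

/-- **The family lemma.** -/
theorem family [IsProper p] [LocallyOfFiniteType τ] [PreconnectedSpace B]
    (hF : EtCoh.IsTorsion ((EtCoh.pull a).obj F))
    (u : Ext.{u + 1} (ZS (EtCoh.top Y')) ((EtCoh.pull a).obj F) N)
    (t₀ t₁ : Spec (CommRingCat.of k) ⟶ B) (ht₀ : t₀ ≫ τ = 𝟙 _) (ht₁ : t₁ ≫ τ = 𝟙 _)
    (e₀ e₁ : Ext.{u + 1} (ZS (EtCoh.top Y)) F N)
    (h₀ : ev p τ a b hsq F N t₀ ht₀ u = cmpI p τ a b hsq F N t₀ ht₀ e₀)
    (h₁ : ev p τ a b hsq F N t₁ ht₁ u = cmpI p τ a b hsq F N t₁ ht₁ e₁) : e₀ = e₁ := by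
  have m₀ := mem_locus p τ a b hsq F N hF u e₀ t₀ ht₀ h₀
  have m₁ := mem_locus p τ a b hsq F N hF u e₁ t₁ ht₁ h₁
  have hc : IsClopen (locus a b F N u e₀) := by
    refine ⟨⟨?_⟩, isOpen_locus a b F N u e₀⟩
    have e : (locus a b F N u e₀)ᶜ = ⋃ (e : {e // e ≠ e₀}), locus a b F N u e.1 := by
      ext x
      simp only [Set.mem_compl_iff, Set.mem_iUnion]
      constructor
      · intro hx
        obtain ⟨e, he⟩ := exists_mem_locus p τ a b hsq F N hF u x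
        exact ⟨⟨e, fun h => hx (h ▸ he)⟩, he⟩
      · rintro ⟨⟨e, hne⟩, he⟩ hx
        exact hne (eq_of_mem_locus p τ a b hsq F N u e e₀ x he hx)
    rw [e]
    exact isOpen_iUnion fun e => isOpen_locus a b F N u e.1
  have hu := hc.eq_univ ⟨_, m₀⟩
  exact eq_of_mem_locus p τ a b hsq F N u e₀ e₁ _ (hu ▸ Set.mem_univ _) m₁

end Main

end

end Groth.Agent.Etdl.H433.Family
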