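import Groth.Agent.Etdl.H433.IdNT
import Groth.Agent.Etdl.H440.CFNat

/-!
# Families of charts

`F : FChart π f j pY o R`, `R` étale over `Y'`, `pY : Y' ⟶ Y`: a chart over `Y'` with values in the
inverse image of `j_! f⁻¹ M`; `cls_end`: restriction to a section `r` of `pY`; `cls_eq`: refinement of
a chart.
-/

set_option autoImplicit false
set_option linter.dupNamespace false
universe u
open CategoryTheory CategoryTheory.Limits AlgebraicGeometry Opposite Abelian
open Groth.Agent.Sga4B.DualShape Groth.Agent.Sga4B.EUConst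
open Groth.Agent.EtpbcB.BCCalc
open Groth.Agent.Etbase.EtGlue (opn opnι)
open Groth.Agent.EtpbcA.OverSite (str)
open scoped Groth.Agent.Etcore.EtInst
open Groth.Agent.Etcore.EtInst
open Groth.Agent.Etcore.ExtMap (extMap extMap_apply)
open Groth.Agent.Etdl.H440.CF

namespace Groth.Agent.Etdl.H433.FChart

open Groth.Agent.Etdl.H433.IdNT

noncomputable section

variable {X Y Y' P S : Scheme.{u}}

/-- A chart over `Y'` with values in the inverse image of `j_! f⁻¹ M`. -/
structure FChart (π : P ⟶ S) (f : X ⟶ S) (j : X ⟶ Y) (pY : Y' ⟶ Y) {O T : P.Etale} (o : O ⟶ T)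
    (R : Y'.Etale) where
  /-- étale over `R` -/
  W : Y'.Etale
  /-- the morphism to `R` -/
  m : W ⟶ R
  /-- `W ⟶ X` -/
  i : W.left ⟶ X
  hi : i ≫ j = W.hom ≫ pY
  /-- the coordinates -/
  t : W.left ⟶ T.left
  comm : i ≫ f = (t ≫ T.hom) ≫ π
  /-- the complement of the support -/
  U₀ : R.left.Opens
  cov : Set.range m.left ∪ (U₀ : Set R.left) = Set.univ
  van : ∀ z : W.left, m.left z ∈ U₀ → t z ∈ Set.range o.left
  agree : ∀ (U : Y'.Etale) (a b : U ⟶ W), a ≫ m = b ≫ m → ∀ z : U.left,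
    ∃ (V : Y'.Etale) (g : V ⟶ U), z ∈ Set.range g.left ∧ (g ≫ a = g ≫ b ∨
      ((∀ y, t (a.left (g.left y)) ∈ Set.range o.left) ∧
        ∀ y, t (b.left (g.left y)) ∈ Set.range o.left))

namespace FChart

variable {π : P ⟶ S} {f : X ⟶ S} {j : X ⟶ Y} [Etale j] {pY : Y' ⟶ Y} {O T : P.Etale} {o : O ⟶ T}
  [IsOpenImmersion o.left] {R : Y'.Etale} (G : FChart π f j pY o R)

/-- The abstract chart. -/
def chart : Chart (efCF (G.t ≫ T.hom) (str G.W)) o R :=
  mkChart o G.m G.t G.U₀ G.cov G.van G.agree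

/-- The natural transformation to `Y' ×_Y (X ×_S V)`. -/
def beta : ((pullCF π).comp (efCF (G.t ≫ T.hom) (str G.W))).v ⟶
    ((efCF f j).comp (pullCF pY)).v :=
  thetaNT π (G.t ≫ T.hom) (str G.W) f j pY G.i G.hi G.comm

/-- The class attached to a chart. -/
def cls (M : EtCoh.Ab S) (N : ℕ) :
    Ext.{u + 1} (ZQ o) ((EtCoh.pull π).obj M) N →+
      Ext.{u + 1} (ZS R) ((EtCoh.pull pY).obj ((efCF f j).L.obj M)) N :=
  G.chart.fcl (Pi := pullCF π) (Fc := (efCF f j).comp (pullCF pY)) G.beta M N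

omit [Etale j] in
theorem lam_eT : (G.chart.lam).left ≫ eT (G.t ≫ T.hom) (str G.W) T = G.t :=
  eLift_eT (G.t ≫ T.hom) (str G.W) (U := G.W) (𝟙 G.W.left)
      (Category.id_comp _) G.t (Category.id_comp _).symm

omit [Etale j] in
theorem lam_eW : (G.chart.lam).left ≫ eW (G.t ≫ T.hom) (str G.W) T = 𝟙 G.W.left :=
  eLift_eW (G.t ≫ T.hom) (str G.W) (U := G.W) (𝟙 G.W.left)
      (Category.id_comp _) G.t (Category.id_comp _).symm

end FChart

section compat

variable (π : P ⟶ S) (f : X ⟶ S) (j : X ⟶ Y) [Etale j] (pY : Y' ⟶ Y) (r : Y ⟶ Y')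
  (hr : r ≫ pY = 𝟙 Y) {W W' : Scheme.{u}} (q' : W' ⟶ P) (v' : W' ⟶ Y') [Etale v'] (i' : W' ⟶ X)
  (h1' : i' ≫ j = v' ≫ pY) (h2' : i' ≫ f = q' ≫ π) (q : W ⟶ P) (v : W ⟶ Y) [Etale v] (i : W ⟶ X)
  (h1 : i ≫ j = v) (h2 : i ≫ f = q ≫ π) (g : W ⟶ W') (hg : g ≫ i' = i) (h3 : g ≫ v' = v ≫ r)
  (h4 : g ≫ q' = q)

include hg in
theorem compat_end (V : S.Etale) :
    (thetaI q' v' v r g h3 q h4).app ((EtCoh.bc π).obj V) ≫
      (EtCoh.bc r).map ((thetaNT π q' v' f j pY i' h1' h2').app V) =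
    (betaNT π q v f j i h1 h2).app V ≫ secApp pY r hr ((efCF f j).v.obj V) := by
  have key : ∀ {Q : Scheme.{u}} (κ : ((efCF f j).v.obj V).left ⟶ Q)
      (κ' : ((efCF q' v').v.obj ((EtCoh.bc π).obj V)).left ⟶ Q)
      (_ : ((thetaNT π q' v' f j pY i' h1' h2').app V).left ≫ pr pY _ ≫ κ = κ'),
      ((thetaI q' v' v r g h3 q h4).app ((EtCoh.bc π).obj V) ≫
        (EtCoh.bc r).map ((thetaNT π q' v' f j pY i' h1' h2').app V)).left ≫
          pr r _ ≫ pr pY _ ≫ κ =
      ((thetaI q' v' v r g h3 q h4).app ((EtCoh.bc π).obj V)).left ≫ pr r _ ≫ κ' := by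
    intro Q κ κ' hκ
    refine (Category.assoc _ _ _).trans ?_
    refine congrArg (((thetaI q' v' v r g h3 q h4).app ((EtCoh.bc π).obj V)).left ≫ ·) ?_
    refine (Category.assoc _ _ _).symm.trans ?_
    refine (congrArg (· ≫ pr pY _ ≫ κ)
      (bc_map_left_pr r ((thetaNT π q' v' f j pY i' h1' h2').app V))).trans ?_
    exact (Category.assoc _ _ _).trans (congrArg (pr r _ ≫ ·) hκ)
  have key2 : ∀ {Q : Scheme.{u}} (κ : ((efCF f j).v.obj V).left ⟶ Q),
      ((betaNT π q v f j i h1 h2).app V ≫ secApp pY r hr ((efCF f j).v.obj V)).left ≫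
          pr r _ ≫ pr pY _ ≫ κ = ((betaNT π q v f j i h1 h2).app V).left ≫ κ := by
    intro Q κ
    refine (Category.assoc _ _ _).trans ?_
    refine congrArg (((betaNT π q v f j i h1 h2).app V).left ≫ ·) ?_
    have e1 := congrArg (· ≫ κ) (secApp_pr_pr pY r hr ((efCF f j).v.obj V))
    refine Eq.trans ?_ (e1.trans (Category.id_comp κ))
    refine Eq.trans ?_ (Category.assoc _ _ _).symm
    exact congrArg ((secApp pY r hr ((efCF f j).v.obj V)).left ≫ ·) (Category.assoc _ _ _).symm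
  apply hom_ext_bc₂ pY r
  apply (isPullback_e f j V).hom_ext
  · refine (Category.assoc _ _ _).trans ?_
    refine (congrArg (((thetaI q' v' v r g h3 q h4).app ((EtCoh.bc π).obj V) ≫
        (EtCoh.bc r).map ((thetaNT π q' v' f j pY i' h1' h2').app V)).left ≫ ·)
        (Category.assoc _ _ _)).trans ?_
    refine (key (eT f j V) _ (thetaNT_rT π q' v' f j pY i' h1' h2' V)).trans ?_
    symm
    refine (Category.assoc _ _ _).trans ?_
    refine (congrArg (((betaNT π q v f j i h1 h2).app V ≫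
      secApp pY r hr ((efCF f j).v.obj V)).left ≫ ·) (Category.assoc _ _ _)).trans ?_
    refine (key2 (eT f j V)).trans ?_
    refine (betaNT_eT π q v f j i h1 h2 V).trans ?_
    symm
    have e1 := congrArg (· ≫ pr π V) (thetaI_rT q' v' v r g h3 q h4 ((EtCoh.bc π).obj V))
    refine Eq.trans ?_ e1
    refine Eq.trans ?_ (Category.assoc _ _ _).symm
    exact congrArg (((thetaI q' v' v r g h3 q h4).app ((EtCoh.bc π).obj V)).left ≫ ·)
      (Category.assoc _ _ _).symm
  · refine (Category.assoc _ _ _).trans ?_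
    refine (congrArg (((thetaI q' v' v r g h3 q h4).app ((EtCoh.bc π).obj V) ≫
        (EtCoh.bc r).map ((thetaNT π q' v' f j pY i' h1' h2').app V)).left ≫ ·)
        (Category.assoc _ _ _)).trans ?_
    refine (key (eW f j V) _ (thetaNT_rW π q' v' f j pY i' h1' h2' V)).trans ?_
    symm
    refine (Category.assoc _ _ _).trans ?_
    refine (congrArg (((betaNT π q v f j i h1 h2).app V ≫
      secApp pY r hr ((efCF f j).v.obj V)).left ≫ ·) (Category.assoc _ _ _)).trans ?_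
    refine (key2 (eW f j V)).trans ?_
    refine (betaNT_eW π q v f j i h1 h2 V).trans ?_
    symm
    have e1 := congrArg (· ≫ i') (thetaI_rW q' v' v r g h3 q h4 ((EtCoh.bc π).obj V))
    have e2 : (eW q v ((EtCoh.bc π).obj V) ≫ g) ≫ i' = eW q v ((EtCoh.bc π).obj V) ≫ i :=
      (Category.assoc _ _ _).trans (congrArg (eW q v ((EtCoh.bc π).obj V) ≫ ·) hg)
    refine Eq.trans ?_ (e1.trans e2)
    refine Eq.trans ?_ (Category.assoc _ _ _).symm
    exact congrArg (((thetaI q' v' v r g h3 q h4).app ((EtCoh.bc π).obj V)).left ≫ ·)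
      (Category.assoc _ _ _).symm

end compat

section cls

variable {π : P ⟶ S} {f : X ⟶ S} {j : X ⟶ Y} [Etale j] {pY : Y' ⟶ Y} {O T : P.Etale} {o : O ⟶ T}
  [IsOpenImmersion o.left] {R' : Y'.Etale} {R : Y.Etale}

theorem tr_sec (A : CF P Y) (r : Y ⟶ Y') (hr : r ≫ pY = 𝟙 Y)
    (φ : A.v ⟶ ((A.comp (pullCF pY)).comp (pullCF r)).v)
    (hφ : ∀ V, φ.app V = secApp pY r hr (A.v.obj V)) (M : EtCoh.Ab P) :
    (CF.tr (A' := A) (A := (A.comp (pullCF pY)).comp (pullCF r)) φ).app M =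
      (CF.tr (secNT pY r hr)).app (A.L.obj M) := by
  apply A.hom_ext
  intro V m
  refine (CF.tr_un φ m).trans ?_
  have h := CF.tr_un (secNT pY r hr) (F := A.L.obj M) (U := A.v.obj V) (A.un m)
  refine Eq.trans ?_ h.symm
  have e1 : ((A.comp (pullCF pY)).comp (pullCF r)).un m =
      ((pullCF pY).comp (pullCF r)).un (A.un m) :=
    (CF.comp_un _ _ m).trans ((congrArg (pullCF r).un (CF.comp_un _ _ m)).trans
      (CF.comp_un _ _ _).symm)
  rw [e1, hφ]
  rfl

/-- **Restriction of a family of charts to a section.** -/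
theorem cls_end (r : Y ⟶ Y') (hr : r ≫ pY = 𝟙 Y) (F : FChart π f j pY o R')
    (G : GChart π f j o R) (σ : R ⟶ (EtCoh.bc r).obj R') (g : G.W.left ⟶ F.W.left)
    (hg1 : g ≫ F.i = G.i) (hg2 : g ≫ F.m.left = G.m.left ≫ σ.left ≫ pr r R')
    (hg3 : g ≫ F.t = G.t) (hU : ∀ z : R.left, z ∈ G.U₀ → (σ.left ≫ pr r R') z ∈ F.U₀)
    (M : EtCoh.Ab S) (N : ℕ) (u : Ext.{u + 1} (ZQ o) ((EtCoh.pull π).obj M) N) :
    (pullCF r).res σ ((EtCoh.pull pY).obj ((efCF f j).L.obj M)) N (F.cls M N u) =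
      (G.cls M N u).comp (Ext.mk₀ ((CF.tr (secNT pY r hr)).app ((efCF f j).L.obj M)))
        (add_zero N) := by
  have h3 : g ≫ str F.W = str G.W ≫ r :=
    calc g ≫ F.W.hom = g ≫ F.m.left ≫ R'.hom := congrArg (g ≫ ·) (left_hom F.m).symm
      _ = (g ≫ F.m.left) ≫ R'.hom := (Category.assoc _ _ _).symm
      _ = (G.m.left ≫ σ.left ≫ pr r R') ≫ R'.hom := congrArg (· ≫ R'.hom) hg2
      _ = G.m.left ≫ σ.left ≫ pr r R' ≫ R'.hom :=
        (Category.assoc _ _ _).trans (congrArg (G.m.left ≫ ·) (Category.assoc _ _ _))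
      _ = G.m.left ≫ σ.left ≫ ((EtCoh.bc r).obj R').hom ≫ r :=
        congrArg (fun k => G.m.left ≫ σ.left ≫ k) (pr_hom r R')
      _ = G.m.left ≫ (σ.left ≫ ((EtCoh.bc r).obj R').hom) ≫ r :=
        congrArg (G.m.left ≫ ·) (Category.assoc _ _ _).symm
      _ = G.m.left ≫ R.hom ≫ r := congrArg (fun k => G.m.left ≫ k ≫ r) (left_hom σ)
      _ = (G.m.left ≫ R.hom) ≫ r := (Category.assoc _ _ _).symm
      _ = G.W.hom ≫ r := congrArg (· ≫ r) (left_hom G.m)
  have h4 : g ≫ F.t ≫ T.hom = G.t ≫ T.hom :=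
    (Category.assoc _ _ _).symm.trans (congrArg (· ≫ T.hom) hg3)
  obtain ⟨ρ, hρ⟩ := exists_rho r σ F.U₀ G.U₀ hU
  have key := fcl_res' (A := efCF (F.t ≫ T.hom) (str F.W)) (A' := efCF (G.t ≫ T.hom) (str G.W))
    (B := pullCF r) (thetaI (F.t ≫ T.hom) (str F.W) (str G.W) r g h3 (G.t ≫ T.hom) h4)
    F.chart G.chart σ (Pi := pullCF π) (Fc := (efCF f j).comp (pullCF pY)) F.beta
    (Fc' := efCF f j) G.beta (Functor.whiskerLeft (efCF f j).v (secNT pY r hr))
    (fun V => compat_end π f j pY r hr (F.t ≫ T.hom) (str F.W) F.i F.hi F.comm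
      (G.t ≫ T.hom) (str G.W) G.i G.hi (G.comm.trans (Category.assoc _ _ _).symm) g hg1 h3 h4 V)
    (lift r (U := F.W) (W := G.W) g h3) ?_ ?_ ρ hρ M N u
  · refine key.trans ?_
    exact congrArg (fun z => (G.cls M N u).comp (Ext.mk₀ z) (add_zero N))
      (tr_sec (efCF f j) r hr _ (fun V => rfl) M)
  · apply hom_ext_bc r
    refine (Category.assoc _ _ _).trans ?_
    symm
    refine (Category.assoc _ _ _).trans ?_
    refine (congrArg ((lift r (U := F.W) (W := G.W) g h3).left ≫ ·)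
      (bc_map_left_pr r F.m)).trans ?_
    refine (Category.assoc _ _ _).symm.trans ?_
    refine (congrArg (· ≫ F.m.left) (lift_left_pr r (U := F.W) (W := G.W) g h3)).trans ?_
    exact hg2
  · apply r_hom_ext
    · refine (Category.assoc _ _ _).trans ?_
      refine (congrArg (G.chart.lam.left ≫ ·)
        (thetaI_rT (F.t ≫ T.hom) (str F.W) (str G.W) r g h3 (G.t ≫ T.hom) h4 T)).trans ?_
      refine G.lam_eT.trans ?_
      symm
      refine (Category.assoc _ _ _).trans ?_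
      have e2 : ((EtCoh.bc r).map F.chart.lam).left ≫ rT (F.t ≫ T.hom) (str F.W) r T =
          pr r F.W ≫ F.t := by
        refine (Category.assoc _ _ _).symm.trans ?_
        refine (congrArg (· ≫ eT (F.t ≫ T.hom) (str F.W) T)
          (bc_map_left_pr r F.chart.lam)).trans ?_
        refine (Category.assoc _ _ _).trans ?_
        exact congrArg (pr r F.W ≫ ·) F.lam_eT
      refine (congrArg ((lift r (U := F.W) (W := G.W) g h3).left ≫ ·) e2).trans ?_
      refine (Category.assoc _ _ _).symm.trans ?_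
      exact (congrArg (· ≫ F.t) (lift_left_pr r (U := F.W) (W := G.W) g h3)).trans hg3
    · refine (Category.assoc _ _ _).trans ?_
      refine (congrArg (G.chart.lam.left ≫ ·)
        (thetaI_rW (F.t ≫ T.hom) (str F.W) (str G.W) r g h3 (G.t ≫ T.hom) h4 T)).trans ?_
      refine (Category.assoc _ _ _).symm.trans ?_
      refine (congrArg (· ≫ g) G.lam_eW).trans ?_
      refine (Category.id_comp _).trans ?_
      symm
      refine (Category.assoc _ _ _).trans ?_
      have e2 : ((EtCoh.bc r).map F.chart.lam).left ≫ rW (F.t ≫ T.hom) (str F.W) r T =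
          pr r F.W := by
        refine (Category.assoc _ _ _).symm.trans ?_
        refine (congrArg (· ≫ eW (F.t ≫ T.hom) (str F.W) T)
          (bc_map_left_pr r F.chart.lam)).trans ?_
        refine (Category.assoc _ _ _).trans ?_
        refine (congrArg (pr r F.W ≫ ·) F.lam_eW).trans ?_
        exact Category.comp_id _
      refine (congrArg ((lift r (U := F.W) (W := G.W) g h3).left ≫ ·) e2).trans ?_
      exact lift_left_pr r (U := F.W) (W := G.W) g h3

end cls

section eq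

variable {π : P ⟶ S} {f : X ⟶ S} {j : X ⟶ Y} [Etale j] {O T : P.Etale} {o : O ⟶ T}
  [IsOpenImmersion o.left] {R : Y.Etale}

theorem compat_eq (π : P ⟶ S) (f : X ⟶ S) (j : X ⟶ Y) [Etale j] {W W' : Scheme.{u}}
    (q' : W' ⟶ P) (v' : W' ⟶ Y) [Etale v'] (i' : W' ⟶ X)
    (h1' : i' ≫ j = v') (h2' : i' ≫ f = q' ≫ π) (q : W ⟶ P) (v : W ⟶ Y) [Etale v] (i : W ⟶ X)
    (h1 : i ≫ j = v) (h2 : i ≫ f = q ≫ π) (g : W' ⟶ W) (hg : g ≫ i = i') (h3 : g ≫ v = v')
    (h4 : g ≫ q = q') (V : S.Etale) :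
    (xNT q' v' q v g h3 h4).app ((EtCoh.bc π).obj V) ≫ (betaNT π q v f j i h1 h2).app V =
      (betaNT π q' v' f j i' h1' h2').app V := by
  apply e_hom_ext
  · refine (Category.assoc _ _ _).trans ?_
    refine (congrArg (((xNT q' v' q v g h3 h4).app ((EtCoh.bc π).obj V)).left ≫ ·)
      (betaNT_eT π q v f j i h1 h2 V)).trans ?_
    refine (Category.assoc _ _ _).symm.trans ?_
    refine (congrArg (· ≫ pr π V) (xApp_eT q' v' q v g h3 h4 ((EtCoh.bc π).obj V))).trans ?_
    exact (betaNT_eT π q' v' f j i' h1' h2' V).symm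
  · refine (Category.assoc _ _ _).trans ?_
    refine (congrArg (((xNT q' v' q v g h3 h4).app ((EtCoh.bc π).obj V)).left ≫ ·)
      (betaNT_eW π q v f j i h1 h2 V)).trans ?_
    refine (Category.assoc _ _ _).symm.trans ?_
    refine (congrArg (· ≫ i) (xApp_eW q' v' q v g h3 h4 ((EtCoh.bc π).obj V))).trans ?_
    refine (Category.assoc _ _ _).trans ?_
    refine (congrArg (eW q' v' ((EtCoh.bc π).obj V) ≫ ·) hg).trans ?_
    exact (betaNT_eW π q' v' f j i' h1' h2' V).symm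

/-- **The class of a refinement of a chart.** -/
theorem cls_eq (G G' : GChart π f j o R) (g : G'.W.left ⟶ G.W.left) (hg1 : g ≫ G.i = G'.i)
    (hg2 : g ≫ G.m.left = G'.m.left) (hg3 : g ≫ G.t = G'.t) (hU : G'.U₀ ≤ G.U₀)
    (M : EtCoh.Ab S) (N : ℕ) (u : Ext.{u + 1} (ZQ o) ((EtCoh.pull π).obj M) N) :
    G.cls M N u = G'.cls M N u := by
  have h3 : g ≫ str G.W = str G'.W :=
    calc g ≫ G.W.hom = g ≫ G.m.left ≫ R.hom := congrArg (g ≫ ·) (left_hom G.m).symm
      _ = (g ≫ G.m.left) ≫ R.hom := (Category.assoc _ _ _).symm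
      _ = G'.m.left ≫ R.hom := congrArg (· ≫ R.hom) hg2
      _ = G'.W.hom := left_hom G'.m
  have h4 : g ≫ G.t ≫ T.hom = G'.t ≫ T.hom :=
    (Category.assoc _ _ _).symm.trans (congrArg (· ≫ T.hom) hg3)
  obtain ⟨ρ, hρ⟩ := Etbase.EtGlue.exists_lift_opn (opnι R G'.U₀) G.U₀ (by
    rw [Etbase.EtGlue.range_opnι]; exact hU)
  let ω : G'.W ⟶ G.W := MorphismProperty.Over.homMk g h3 trivial
  have key := fcl_res' (A := efCF (G.t ≫ T.hom) (str G.W)) (A' := efCF (G'.t ≫ T.hom) (str G'.W))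
    (B := CF.id Y) (xNT (G'.t ≫ T.hom) (str G'.W) (G.t ≫ T.hom) (str G.W) g h3 h4)
    G.chart G'.chart (𝟙 R) (Pi := pullCF π) (Fc := efCF f j) G.beta
    (Fc' := efCF f j) G'.beta (𝟙 (efCF f j).v)
    (fun V => (compat_eq π f j (G'.t ≫ T.hom) (str G'.W) G'.i G'.hi
      (G'.comm.trans (Category.assoc _ _ _).symm)
      (G.t ≫ T.hom) (str G.W) G.i G.hi (G.comm.trans (Category.assoc _ _ _).symm) g hg1 h3 h4
        V).trans (Category.comp_id _).symm)
    ω ?_ ?_ ρ ?_ M N u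
  · have e1 : (CF.tr (𝟙 (efCF f j).v)).app M = 𝟙 ((efCF f j).L.obj M) := tr_id (efCF f j) M
    have e2 := id_res (R := R) ((efCF f j).L.obj M) N (G.cls M N u)
    refine e2.symm.trans (key.trans ?_)
    refine (congrArg (fun z => (G'.cls M N u).comp (Ext.mk₀ z) (add_zero N)) e1).trans ?_
    exact Ext.comp_mk₀_id _
  · refine (Category.comp_id _).trans ?_
    exact MorphismProperty.Over.Hom.ext hg2.symm
  · apply e_hom_ext
    · refine (Category.assoc _ _ _).trans ?_
      refine (congrArg (G'.chart.lam.left ≫ ·)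
        (xApp_eT (G'.t ≫ T.hom) (str G'.W) (G.t ≫ T.hom) (str G.W) g h3 h4 T)).trans ?_
      refine G'.lam_eT.trans ?_
      symm
      refine (Category.assoc _ _ _).trans ?_
      exact (congrArg (g ≫ ·) G.lam_eT).trans hg3
    · refine (Category.assoc _ _ _).trans ?_
      refine (congrArg (G'.chart.lam.left ≫ ·)
        (xApp_eW (G'.t ≫ T.hom) (str G'.W) (G.t ≫ T.hom) (str G.W) g h3 h4 T)).trans ?_
      refine (Category.assoc _ _ _).symm.trans ?_
      refine (congrArg (· ≫ g) G'.lam_eW).trans ?_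
      refine (Category.id_comp _).trans ?_
      symm
      refine (Category.assoc _ _ _).trans ?_
      exact (congrArg (g ≫ ·) G.lam_eW).trans (Category.comp_id _)
  · exact (Category.comp_id _).trans hρ.symm

end eq

end

end Groth.Agent.Etdl.H433.FChart
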