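import Groth.Prelude.Def_DEt2
import Groth.Agent.S0125
import Groth.Agent.S0630
import Groth.Agent.S3110
import Groth.Agent.Sga4h.PushDer
import Groth.Agent.Etcore.OpenClosed
import Groth.Agent.Etcore.ShriekExact
import Groth.Agent.Sga4B.ShriekTools
import Groth.Agent.Sga4B.TorsionStalks
import Mathlib.AlgebraicGeometry.Morphisms.Immersion

/-!
# Vanishing of `R^q f_!` for sheaves supported on a closed subscheme with small fibres

For `c` a compactification of `f : X ⟶ S`, `i : Z ⟶ X` a closed immersion such that the fibres of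
`i ≫ f` have dimension at most `e`, and `G` a torsion sheaf on `Z`, the sheaf
`R^q fbar_* (c.j)_! i_* G` vanishes for `q > 2 e`.
-/

set_option autoImplicit false
universe u
open CategoryTheory CategoryTheory.Limits AlgebraicGeometry Opposite

namespace Groth.Agent.Etdl.H433.SuppVanish

open Groth.Agent.Etcore Groth.Agent.Sga4B

/-- `A ⟶ ι_* ι^* A` is an isomorphism for `ι` a closed immersion and `A` a sheaf with zero stalks outside of
the image of `ι`. -/
theorem isIso_unit_of_isZero_stalks {W P : Scheme.{u}} (ι : W ⟶ P) [IsClosedImmersion ι]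
    (A : EtCoh.Ab P)
    (h : ∀ (Ω : Type u) [Field Ω] [IsSepClosed Ω] (ξ : Spec (CommRingCat.of Ω) ⟶ P),
      ξ default ∉ Set.range ι → IsZero ((EtCoh.stalk ξ).obj A)) :
    IsIso ((EtCoh.pullPushAdj ι).unit.app A) := by
  let V : P.Opens := ⟨(Set.range ι)ᶜ, ι.isClosedEmbedding.isClosed_range.isOpen_compl⟩
  have hd : IsCompl (Set.range ι) (Set.range V.ι) := by
    rw [Scheme.Opens.range_ι]
    exact isCompl_compl
  rw [Stalks.isIso_iff_stalks]
  intro Ω _ _ ξ
  by_cases hξ : ξ default ∈ Set.range ι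
  · exact OpenClosed.isIso_stalk_unit ι ξ hξ A
  · have h1 : IsZero ((EtCoh.stalk ξ).obj ((𝟭 (EtCoh.Ab P)).obj A)) := h Ω ξ hξ
    have h2 : IsZero ((EtCoh.stalk ξ).obj ((EtCoh.pull ι ⋙ EtCoh.push ι).obj A)) := by
      refine OpenClosed.isZero_stalk_push ι V.ι hd.disjoint ξ ?_ ((EtCoh.pull ι).obj A)
      rw [Scheme.Opens.range_ι]
      exact hξ
    exact h1.isIso h2 _

/-- The stalks of `j_! i_* G` vanish outside of the image of `i ≫ j`. -/
theorem isZero_stalk_extZero_push {Z X P : Scheme.{u}} (i : Z ⟶ X) [IsClosedImmersion i]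
    (j : X ⟶ P) [IsOpenImmersion j] (G : EtCoh.Ab Z) (Ω : Type u) [Field Ω] [IsSepClosed Ω]
    (ξ : Spec (CommRingCat.of Ω) ⟶ P) (hξ : ξ default ∉ Set.range (i ≫ j)) :
    IsZero ((EtCoh.stalk ξ).obj ((EtShriek.extZero j).obj ((EtCoh.push i).obj G))) := by
  by_cases h : ξ default ∈ Set.range j
  · obtain ⟨u, rfl⟩ := ShriekUnique.exists_lift j ξ h
    refine IsZero.of_iso ?_ ((ShriekUnique.stalkRestrIso j u).app _)
    have e : (EtShriek.restrAlong j).obj ((EtShriek.extZero j).obj ((EtCoh.push i).obj G)) ≅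
        (EtCoh.push i).obj G :=
      (asIso ((EtShriek.extZeroAdj j).unit.app ((EtCoh.push i).obj G))).symm
    refine IsZero.of_iso ?_ ((EtCoh.stalk u).mapIso e)
    let V : X.Opens := ⟨(Set.range i)ᶜ, i.isClosedEmbedding.isClosed_range.isOpen_compl⟩
    have hd : IsCompl (Set.range i) (Set.range V.ι) := by
      rw [Scheme.Opens.range_ι]
      exact isCompl_compl
    refine OpenClosed.isZero_stalk_push i V.ι hd.disjoint u ?_ G
    rw [Scheme.Opens.range_ι]
    rintro ⟨z, hz⟩
    refine hξ ⟨z, ?_⟩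
    rw [Scheme.Hom.comp_apply, hz, Scheme.Hom.comp_apply]
  · exact ShriekUnique.isZero_stalk_extZero' j ξ h _

/-- Preimage of the closure. -/
theorem mem_range_of_mem_closure {Z X P : Scheme.{u}} (i : Z ⟶ X) [IsClosedImmersion i]
    (j : X ⟶ P) [IsOpenImmersion j] (x : X) (hx : j x ∈ closure (Set.range (i ≫ j))) :
    x ∈ Set.range i := by
  have h1 : Set.range (i ≫ j) = j '' Set.range i := by
    rw [Scheme.Hom.comp_base, TopCat.coe_comp, Set.range_comp]
  rw [h1] at hx
  have h2 : x ∈ closure (Set.range i) := by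
    rw [j.isOpenEmbedding.isInducing.closure_eq_preimage_closure_image]
    exact hx
  rwa [i.isClosedEmbedding.isClosed_range.closure_eq] at h2

theorem isZero_Rpush_extZero_push {X P S Z : Scheme.{u}} (jc : X ⟶ P) [IsOpenImmersion jc]
    [QuasiCompact jc] (p : P ⟶ S) [IsProper p] (i : Z ⟶ X) [IsClosedImmersion i] (e : ℕ)
    (hZ : ∀ s : S, topologicalKrullDim ↥((i ≫ jc ≫ p).fiber s) ≤ e)
    (G : EtCoh.Ab Z) (hG : EtCoh.IsTorsion G) (q : ℕ) (hq : 2 * e < q) :
    IsZero ((EtCoh.Rpush p q).obj ((EtShriek.extZero jc).obj ((EtCoh.push i).obj G))) := by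
  let g : Z ⟶ P := i ≫ jc
  have hg : IsImmersion g := inferInstance
  have hgc : QuasiCompact g := inferInstance
  let k : Z ⟶ g.image := g.toImage
  let ι : g.image ⟶ P := g.imageι
  have hk : IsOpenImmersion k := inferInstance
  have hι : IsClosedImmersion ι := inferInstance
  have hkι : k ≫ ι = i ≫ jc := g.toImage_imageι
  have hrι : Set.range ι = closure (Set.range (i ≫ jc)) := by
    change Set.range g.imageι = _
    rw [Scheme.IdealSheafData.range_subschemeι, Scheme.Hom.support_ker]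
  let A : EtCoh.Ab P := (EtShriek.extZero jc).obj ((EtCoh.push i).obj G)
  have hA0 : ∀ (Ω : Type u) [Field Ω] [IsSepClosed Ω] (ξ : Spec (CommRingCat.of Ω) ⟶ P),
      ξ default ∉ Set.range (i ≫ jc) → IsZero ((EtCoh.stalk ξ).obj A) :=
    fun Ω _ _ ξ h => isZero_stalk_extZero_push i jc G Ω ξ h
  have h1 : IsIso ((EtCoh.pullPushAdj ι).unit.app A) := by
    refine isIso_unit_of_isZero_stalks ι A fun Ω _ _ ξ h => hA0 Ω ξ fun h' => h ?_
    rw [hrι]
    exact subset_closure h'
  have h2 : IsIso ((EtShriek.extZeroAdj k).counit.app ((EtCoh.pull ι).obj A)) := by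
    refine ShriekUnique.isIso_counit_of_isZero_stalks k _ fun Ω _ _ ξ h => ?_
    refine IsZero.of_iso ?_ ((Groth.Agent.Etbase.StalkPull.stalkPullIso ι ξ).app A).symm
    refine hA0 Ω _ ?_
    rintro ⟨z, hz⟩
    refine h ⟨default, rfl⟩ ⟨z, ?_⟩
    apply ι.isClosedEmbedding.injective
    have h3 : ι (k z) = (ξ ≫ ι) default := by
      rw [← hz, ← Scheme.Hom.comp_apply, hkι]
    rw [Scheme.Hom.comp_apply] at h3
    exact h3
  have hA : EtCoh.IsTorsion A :=
    TorsionStalks.isTorsion_extZero jc (Groth.Agent.EtpbcA.RpushTors.isTorsion_push i G hG)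
  have hB : EtCoh.IsTorsion ((EtShriek.restrAlong k).obj ((EtCoh.pull ι).obj A)) :=
    TorsionStalks.isTorsion_of_iso ((ShriekBasic.pullIsoRestr k).app _)
      (TorsionStalks.isTorsion_pull k (TorsionStalks.isTorsion_pull ι hA))
  have hpfc : PreservesFiniteColimits (EtCoh.push ι) := Groth.Agent.S0630.result ι
  have h4 : IsZero ((EtCoh.Rpush (ι ≫ p) q).obj ((EtShriek.extZero k).obj
      ((EtShriek.restrAlong k).obj ((EtCoh.pull ι).obj A)))) := by
    refine Groth.Agent.S3110.result k (ι ≫ p) e (fun s => ?_) _ hB q hq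
    have : k ≫ ι ≫ p = i ≫ jc ≫ p := by
      rw [← Category.assoc, hkι, Category.assoc]
    rw [this]
    exact hZ s
  have h5 : IsZero ((EtCoh.Rpush (ι ≫ p) q).obj ((EtCoh.pull ι).obj A)) :=
    IsZero.of_iso h4 ((EtCoh.Rpush (ι ≫ p) q).mapIso
      (asIso ((EtShriek.extZeroAdj k).counit.app ((EtCoh.pull ι).obj A)))).symm
  have h6 : IsZero ((EtCoh.Rpush p q).obj ((EtCoh.push ι).obj ((EtCoh.pull ι).obj A))) := by
    refine IsZero.of_iso h5 (Groth.Agent.Sga4h.PushDer.rpushCompIso ι p _ (fun r hr => ?_) q)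
    obtain ⟨n, rfl⟩ : ∃ n, r = n + 1 := ⟨r - 1, by omega⟩
    exact Groth.Agent.Etbase.PushExact.isZero_rightDerived_of_exact (EtCoh.push ι) _ n
  exact IsZero.of_iso h6 ((EtCoh.Rpush p q).mapIso (asIso ((EtCoh.pullPushAdj ι).unit.app A)))

end Groth.Agent.Etdl.H433.SuppVanish
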